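import Groth.Agent.TotInt.Dual
import Groth.Agent.Comod.Tame
import Groth.Prelude.Def_W4c1tameactTame

set_option autoImplicit false
set_option maxHeartbeats 600000
universe u v w w'

open TensorProduct WithConv

namespace Groth.Agent.TotInt

open Groth.Agent.Comod

variable (k : Type u) [CommRing k] (A : Type v) [CommRing A] [HopfAlgebra k A]
variable [Module.Finite k A] [Module.Projective k A]
variable (B : Type w) [CommRing B] [Algebra k B] [HopfRep.Comod k A B] [GLin.IsCoactAlg k A B]

/-- `Hom(A, B)` as `B ⊗ A^*` -/
abbrev HomMod : Type max u v w := B ⊗[k] Module.Dual k A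

/-- the contragredient of the regular comodule -/
@[reducible] noncomputable def dualReg : HopfRep.Comod k A (Module.Dual k A) :=
  dualComod (HopfRep.Comod.regular k A)

@[reducible] noncomputable def homComod : HopfRep.Comod k A (HomMod k A B) :=
  ComodTens.Comod.tensor inferInstance (dualReg k A)

theorem homComod_tmul (b : B) (φ : Module.Dual k A) :
    (homComod k A B).coact (b ⊗ₜ[k] φ) =
      TensorProduct.map LinearMap.id (LinearMap.mul' k A)
        (AlgebraTensorModule.tensorTensorTensorComm k k k k B A (Module.Dual k A) A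
          (HopfRep.Comod.coact (k := k) (A := A) b ⊗ₜ[k] (dualReg k A).coact φ)) :=
  ComodTens.tensor_coact_tmul _ _ b φ

theorem isHopfMod_homComod :
    @TameAct.IsHopfMod k _ A _ _ B _ _ (HomMod k A B) _ _ _ _ _ (homComod k A B) := by
  letI := homComod k A B
  refine ⟨fun b m => ?_⟩
  induction m using TensorProduct.induction_on with
  | zero => simp
  | add y z hy hz => simp only [smul_add, map_add, hy, hz]
  | tmul b' φ =>
    rw [TensorProduct.smul_tmul', homComod_tmul, homComod_tmul, smul_eq_mul,
      GLin.IsCoactAlg.coact_mul (k := k)]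
    generalize HopfRep.Comod.coact (k := k) (A := A) b = x
    generalize HopfRep.Comod.coact (k := k) (A := A) b' = y
    generalize (dualReg k A).coact φ = z
    induction x with
    | zero => simp
    | add p q hp hq => simp only [add_mul, add_tmul, map_add, LinearMap.add_apply, hp, hq]
    | tmul x₀ x₁ =>
      induction y with
      | zero => simp
      | add p q hp hq => simp only [mul_add, add_tmul, map_add, hp, hq]
      | tmul y₀ y₁ =>
        induction z with
        | zero => simp
        | add p q hp hq => simp only [tmul_add, map_add, hp, hq]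
        | tmul z₀ z₁ => simp [TensorProduct.smul_tmul', mul_assoc]

/-- evaluation at `1` -/
noncomputable def evalOne : HomMod k A B →ₗ[B] B :=
  (AlgebraTensorModule.rid k B B).toLinearMap ∘ₗ
    (LinearMap.applyₗ (1 : A) : Module.Dual k A →ₗ[k] k).baseChange B

theorem evalOne_tmul (b : B) (φ : Module.Dual k A) : evalOne k A B (b ⊗ₜ φ) = φ 1 • b := by
  simp [evalOne]

theorem slL_one_dualReg (φ : Module.Dual k A) :
    slL (LinearMap.applyₗ (1 : A)) ((dualReg k A).coact φ) = φ 1 • (1 : A) := by
  show slL (LinearMap.applyₗ (1 : A)) (dualCoact (HopfRep.Comod.regular k A) φ) = _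
  rw [slL_applyₗ_dualCoact]
  show HopfAlgebraStruct.antipode k (slL φ (Coalgebra.comul (R := k) (1 : A))) = _
  simp [Algebra.TensorProduct.one_def]

theorem isComodHom_evalOne :
    @Hoch.IsComodHom k _ A _ _ _ (HomMod k A B) _ _ (homComod k A B) B _ _ _
      ((evalOne k A B).restrictScalars k) := by
  letI := homComod k A B
  refine LinearMap.ext fun m => ?_
  simp only [LinearMap.comp_apply, LinearMap.restrictScalars_apply]
  induction m using TensorProduct.induction_on with
  | zero => simp
  | add y z hy hz => simp only [map_add, hy, hz]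
  | tmul b φ =>
    have h : ∀ (y : B ⊗[k] A) (z : Module.Dual k A ⊗[k] A),
        ((evalOne k A B).restrictScalars k).rTensor A (TensorProduct.map LinearMap.id (LinearMap.mul' k A)
          (AlgebraTensorModule.tensorTensorTensorComm k k k k B A (Module.Dual k A) A (y ⊗ₜ[k] z))) =
          y * ((1 : B) ⊗ₜ[k] slL (LinearMap.applyₗ (1 : A)) z) := by
      intro y z
      induction y with
      | zero => simp
      | add p q hp hq => simp only [add_mul, add_tmul, map_add, hp, hq]
      | tmul y₀ y₁ =>
        induction z with
        | zero => simp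
        | add p q hp hq => simp only [tmul_add, map_add, mul_add, hp, hq]
        | tmul z₀ z₁ =>
          simp [evalOne_tmul, TensorProduct.smul_tmul', TensorProduct.tmul_smul]
    rw [evalOne_tmul, map_smul, homComod_tmul, h, slL_one_dualReg]
    simp [← Algebra.TensorProduct.one_def]

/-- an element of `B ⊗ A^*` as a map `A → B` -/
noncomputable def toMap : HomMod k A B →ₗ[k] (A →ₗ[k] B) :=
  dualTensorHom k A B ∘ₗ (TensorProduct.comm k B (Module.Dual k A)).toLinearMap

theorem toMap_tmul (b : B) (φ : Module.Dual k A) (a : A) : toMap k A B (b ⊗ₜ φ) a = φ a • b := by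
  simp [toMap]

theorem toMap_one (m : HomMod k A B) : toMap k A B m 1 = evalOne k A B m := by
  induction m using TensorProduct.induction_on with
  | zero => simp
  | add y z hy hz => simp only [map_add, LinearMap.add_apply, hy, hz]
  | tmul b φ => rw [toMap_tmul, evalOne_tmul]

/-- an element of `(B ⊗ A^*) ⊗ A` as a map `A → B ⊗ A` -/
noncomputable def toMapR : HomMod k A B ⊗[k] A →ₗ[k] (A →ₗ[k] B ⊗[k] A) :=
  TensorProduct.lift (LinearMap.mk₂ k (fun m c => (TensorProduct.mk k B A).flip c ∘ₗ toMap k A B m)
    (fun m m' c => LinearMap.ext fun a => by simp [add_tmul])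
    (fun r m c => LinearMap.ext fun a => by simp [TensorProduct.smul_tmul'])
    (fun m c c' => LinearMap.ext fun a => by simp [tmul_add])
    (fun r m c => LinearMap.ext fun a => by simp [TensorProduct.tmul_smul]))

theorem toMapR_coact (m : HomMod k A B) :
    toConv (toMapR k A B ((homComod k A B).coact m)) =
      toConv ((HopfRep.Comod.coact (k := k) (A := A) (V := B)) ∘ₗ toMap k A B m) *
        toConv ((Algebra.TensorProduct.includeRight : A →ₐ[k] B ⊗[k] A).toLinearMap ∘ₗ
          HopfAlgebraStruct.antipode k) := by
  apply ofConv_injective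
  refine LinearMap.ext fun a => ?_
  rw [LinearMap.convMul_apply]
  simp only [ofConv_toConv]
  induction m using TensorProduct.induction_on with
  | zero => simp
  | add y z hy hz =>
    simp only [map_add, LinearMap.add_apply, LinearMap.comp_add, TensorProduct.map_add_left, hy, hz]
  | tmul b φ =>
    have h : ∀ (y : B ⊗[k] A) (z : Module.Dual k A ⊗[k] A),
        toMapR k A B (TensorProduct.map LinearMap.id (LinearMap.mul' k A)
          (AlgebraTensorModule.tensorTensorTensorComm k k k k B A (Module.Dual k A) A (y ⊗ₜ[k] z))) a =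
          y * ((1 : B) ⊗ₜ[k] slL (LinearMap.applyₗ a) z) := by
      intro y z
      induction y with
      | zero => simp
      | add p q hp hq => simp only [add_mul, add_tmul, map_add, LinearMap.add_apply, hp, hq]
      | tmul y₀ y₁ =>
        induction z with
        | zero => simp
        | add p q hp hq => simp only [tmul_add, map_add, mul_add, LinearMap.add_apply, hp, hq]
        | tmul z₀ z₁ =>
          simp [toMapR, toMap_tmul, TensorProduct.smul_tmul', TensorProduct.tmul_smul]
    rw [homComod_tmul, h]
    show _ * ((1 : B) ⊗ₜ[k] slL (LinearMap.applyₗ a) (dualCoact (HopfRep.Comod.regular k A) φ)) = _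
    rw [slL_applyₗ_dualCoact]
    show _ * ((1 : B) ⊗ₜ[k] HopfAlgebraStruct.antipode k (slL φ (Coalgebra.comul (R := k) a))) = _
    generalize Coalgebra.comul (R := k) a = y
    induction y with
    | zero => simp
    | add p q hp hq => simp only [map_add, tmul_add, mul_add, hp, hq]
    | tmul p q => simp [toMap_tmul, TensorProduct.tmul_smul]

variable {k A B}

theorem exists_totalIntegral
    (hex : ∀ (f : HomMod k A B →ₗ[B] B),
      @Hoch.IsComodHom k _ A _ _ _ (HomMod k A B) _ _ (homComod k A B) B _ _ _ (f.restrictScalars k) →
      Function.Surjective f → ∃ m, (homComod k A B).coact m = m ⊗ₜ[k] (1 : A) ∧ f m = 1) :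
    ∃ α : A →ₗ[k] B, Hoch.IsComodHom A α ∧ α 1 = 1 := by
  obtain ⟨m, hm, h1⟩ := hex (evalOne k A B) (isComodHom_evalOne k A B) fun b =>
    ⟨b ⊗ₜ[k] (Coalgebra.counit (R := k) (A := A)), by simp [evalOne_tmul]⟩
  refine ⟨toMap k A B m, ?_, by rw [toMap_one, h1]⟩
  let inR : A →ₐ[k] B ⊗[k] A := Algebra.TensorProduct.includeRight
  have h2 : toConv ((TensorProduct.mk k B A).flip 1 ∘ₗ toMap k A B m) =
      toConv ((HopfRep.Comod.coact (k := k) (A := A) (V := B)) ∘ₗ toMap k A B m) *
        toConv (inR.toLinearMap ∘ₗ HopfAlgebraStruct.antipode k) := by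
    rw [← toMapR_coact, hm]
    congr 1
  have h3 : toConv (inR.toLinearMap ∘ₗ HopfAlgebraStruct.antipode k) * toConv inR.toLinearMap = 1 := by
    apply ofConv_injective
    refine LinearMap.ext fun a => ?_
    rw [LinearMap.convMul_apply, LinearMap.convOne_apply, ← Bialgebra.counitAlgHom_apply]
    simp only [ofConv_toConv, Bialgebra.counitAlgHom_apply]
    rw [← inR.commutes, ← HopfAlgebra.mul_antipode_rTensor_comul_apply (R := k) a]
    generalize Coalgebra.comul (R := k) a = y
    induction y with
    | zero => simp
    | add p q hp hq => simp only [map_add, hp, hq]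
    | tmul p q => simp [inR]
  have h4 := congrArg (· * toConv inR.toLinearMap) h2
  simp only [_root_.mul_assoc, h3, _root_.mul_one] at h4
  refine LinearMap.ext fun a => ?_
  have h5 := congrArg (fun F : WithConv (A →ₗ[k] B ⊗[k] A) => F.ofConv a) h4
  simp only [LinearMap.convMul_apply, ofConv_toConv, LinearMap.comp_apply] at h5 ⊢
  rw [← h5]
  generalize Coalgebra.comul (R := k) a = y
  induction y with
  | zero => simp
  | add p q hp hq => simp only [map_add, hp, hq]
  | tmul p q => simp [inR]

end Groth.Agent.TotInt
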