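import Groth.Agent.LinRed.Integral
import Groth.Prelude.Def_ComodDual

/-!
# The contragredient of a finite projective comodule over any base ring (after `LinRed.Criteria`)
-/

set_option autoImplicit false
universe u v w w'

open TensorProduct

namespace Groth.Agent.TotInt

open Groth.Agent.Comod

section Dual

variable {k : Type u} [CommRing k] {A : Type v} [CommRing A] [HopfAlgebra k A]
variable {V : Type w} [AddCommGroup V] [Module k V] [Module.Finite k V] [Module.Projective k V] (c : HopfRep.Comod k A V)

/-- the coaction on the linear dual -/
noncomputable def dualCoact : Module.Dual k V →ₗ[k] Module.Dual k V ⊗[k] A :=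
  (LinearEquiv.ofBijective (dualTensorHom k V A) dualTensorHom_bijective).symm.toLinearMap ∘ₗ
    { toFun := ComodTens.dualCoactFun c
      map_add' := ComodTens.dualCoactFun_add c
      map_smul' := fun r f => ComodTens.dualCoactFun_smul c r f }

theorem slL_applyₗ_dualCoact (f : Module.Dual k V) (v : V) :
    slL (LinearMap.applyₗ v) (dualCoact c f) = HopfAlgebraStruct.antipode k (slL f (c.coact v)) := by
  have h1 : ∀ y : Module.Dual k V ⊗[k] A, slL (LinearMap.applyₗ v) y = dualTensorHom k V A y v := by
    intro y
    induction y with
    | zero => simp
    | tmul p q => simp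
    | add y z hy hz => simp only [map_add, LinearMap.add_apply, hy, hz]
  have h2 : dualTensorHom k V A (dualCoact c f) = ComodTens.dualCoactFun c f :=
    (LinearEquiv.ofBijective (dualTensorHom k V A) dualTensorHom_bijective).apply_symm_apply _
  rw [h1, h2, ComodTens.dualCoactFun_apply]
  generalize c.coact v = y
  induction y with
  | zero => simp
  | tmul p q => simp
  | add y z hy hz => simp only [map_add, hy, hz]

theorem eq_of_forall_slL_applyₗ {B : Type w'} [AddCommGroup B] [Module k B]
    {x y : Module.Dual k V ⊗[k] B}
    (h : ∀ v : V, slL (LinearMap.applyₗ v) x = slL (LinearMap.applyₗ v) y) : x = y := by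
  apply (dualTensorHom_bijective (R := k) (M := V) (N := B)).1
  have h1 : ∀ (v : V) (z : Module.Dual k V ⊗[k] B), slL (LinearMap.applyₗ v) z = dualTensorHom k V B z v := by
    intro v z
    induction z with
    | zero => simp
    | tmul p q => simp
    | add y z hy hz => simp only [map_add, LinearMap.add_apply, hy, hz]
  exact LinearMap.ext fun v => by rw [← h1, ← h1]; exact h v

/-- the contragredient comodule -/
@[reducible] noncomputable def dualComod : HopfRep.Comod k A (Module.Dual k V) where
  coact := dualCoact c
  coassoc := by
    apply LinearMap.ext
    intro f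
    simp only [LinearMap.comp_apply, LinearEquiv.coe_coe]
    refine eq_of_forall_slL_applyₗ fun v => ?_
    let S := HopfAlgebraStruct.antipode k (A := A)
    let x := dualCoact c f
    let H : V ⊗[k] (A ⊗[k] A) →ₗ[k] A ⊗[k] A :=
      TensorProduct.map S S ∘ₗ (TensorProduct.comm k A A).toLinearMap ∘ₗ slL f
    let Ψ : (Module.Dual k V ⊗[k] A) →ₗ[k] V ⊗[k] A →ₗ[k] A ⊗[k] A :=
      TensorProduct.lift (LinearMap.mk₂ k (fun φ b => (TensorProduct.mk k A A).flip b ∘ₗ S ∘ₗ slL φ)
        (fun φ ψ b => LinearMap.ext fun y => by simp [slL, LinearMap.rTensor_add, add_tmul])
        (fun r φ b => LinearMap.ext fun y => by simp [slL, LinearMap.rTensor_smul, TensorProduct.smul_tmul'])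
        (fun φ b b' => LinearMap.ext fun y => by simp [tmul_add])
        (fun r φ b => LinearMap.ext fun y => by simp [TensorProduct.tmul_smul]))
    have e1 : ∀ z : Module.Dual k V ⊗[k] A,
        slL (LinearMap.applyₗ v) (TensorProduct.assoc k _ A A ((dualCoact c).rTensor A z)) = Ψ z (c.coact v) := by
      intro z
      induction z with
      | zero => simp
      | tmul φ b =>
        rw [LinearMap.rTensor_tmul]
        have : ∀ (w : Module.Dual k V ⊗[k] A),
            slL (LinearMap.applyₗ v) (TensorProduct.assoc k _ A A (w ⊗ₜ[k] b)) =
              slL (LinearMap.applyₗ v) w ⊗ₜ[k] b := by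
          intro w
          induction w with
          | zero => simp
          | tmul p q => simp [TensorProduct.smul_tmul']
          | add y z hy hz => simp only [map_add, add_tmul, hy, hz]
        rw [this, slL_applyₗ_dualCoact]
        rfl
      | add y z hy hz => simp only [map_add, LinearMap.add_apply, hy, hz]
    have e2 : ∀ (z : Module.Dual k V ⊗[k] A) (y : V ⊗[k] A), Ψ z y =
        TensorProduct.lift (LinearMap.mk₂ k (fun u b => S b ⊗ₜ[k] slL (LinearMap.applyₗ u) z)
          (fun u u' b => by simp [slL, LinearMap.rTensor_add, tmul_add])
          (fun r u b => by simp [slL, LinearMap.rTensor_smul, TensorProduct.tmul_smul])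
          (fun u b b' => by simp [add_tmul])
          (fun r u b => by simp [TensorProduct.smul_tmul'])) y := by
      intro z y
      induction z with
      | zero =>
        induction y with
        | zero => simp
        | tmul p q => simp
        | add y z hy hz => simp only [map_add, ← hy, ← hz]
      | tmul φ b =>
        induction y with
        | zero => simp
        | tmul p q => simp [Ψ, TensorProduct.smul_tmul', TensorProduct.tmul_smul]
        | add y z hy hz => simp only [map_add, ← hy, ← hz]
      | add z z' hz hz' =>
        rw [map_add, LinearMap.add_apply, hz, hz']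
        clear hz hz'
        induction y with
        | zero => simp
        | tmul p q => simp only [map_add, TensorProduct.lift.tmul, LinearMap.mk₂_apply, tmul_add] <;> rfl
        | add y z hy hz => simp only [map_add] at hy hz ⊢; rw [← hy, ← hz]; abel
    have e3 : ∀ y : V ⊗[k] A,
        TensorProduct.lift (LinearMap.mk₂ k (fun u b => S b ⊗ₜ[k] slL (LinearMap.applyₗ u) x)
          (fun u u' b => by simp [slL, LinearMap.rTensor_add, tmul_add])
          (fun r u b => by simp [slL, LinearMap.rTensor_smul, TensorProduct.tmul_smul])
          (fun u b b' => by simp [add_tmul])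
          (fun r u b => by simp [TensorProduct.smul_tmul'])) y =
        H (TensorProduct.assoc k V A A (c.coact.rTensor A y)) := by
      intro y
      induction y with
      | zero => simp
      | tmul u b =>
        simp only [TensorProduct.lift.tmul, LinearMap.mk₂_apply, LinearMap.rTensor_tmul, x, slL_applyₗ_dualCoact]
        generalize c.coact u = z
        induction z with
        | zero => simp
        | tmul p q => simp [H, S, TensorProduct.tmul_smul]
        | add y z hy hz => simp only [map_add, tmul_add, add_tmul, hy, hz]
      | add y z hy hz => simp only [map_add, hy, hz]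
    have e4 : ∀ y : V ⊗[k] A, H ((Coalgebra.comul (R := k)).lTensor V y) =
        Coalgebra.comul (R := k) (S (slL f y)) := by
      intro y
      induction y with
      | zero => simp
      | tmul u b => simp [H, S, Groth.Agent.HopfLib.comul_antipode]
      | add y z hy hz => simp only [map_add, hy, hz]
    have e5 : ∀ z : Module.Dual k V ⊗[k] A,
        slL (LinearMap.applyₗ v) ((Coalgebra.comul (R := k)).lTensor (Module.Dual k V) z) =
          Coalgebra.comul (R := k) (slL (LinearMap.applyₗ v) z) := by
      intro z
      induction z with
      | zero => simp
      | tmul p q => simp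
      | add y z hy hz => simp only [map_add, hy, hz]
    have hco := LinearMap.congr_fun c.coassoc v
    simp only [LinearMap.comp_apply, LinearEquiv.coe_coe] at hco
    rw [e1, e2, e3, hco, e4, e5, slL_applyₗ_dualCoact]
  counit_comp := by
    apply LinearMap.ext
    intro f
    simp only [LinearMap.comp_apply, LinearMap.flip_apply, TensorProduct.mk_apply]
    refine eq_of_forall_slL_applyₗ fun v => ?_
    have e1 : ∀ z : Module.Dual k V ⊗[k] A,
        slL (LinearMap.applyₗ v) ((Coalgebra.counit (R := k) (A := A)).lTensor (Module.Dual k V) z) =
          Coalgebra.counit (R := k) (slL (LinearMap.applyₗ v) z) := by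
      intro z
      induction z with
      | zero => simp
      | tmul p q => simp
      | add y z hy hz => simp only [map_add, hy, hz]
    rw [e1, slL_applyₗ_dualCoact, HopfAlgebra.counit_antipode, slL_tmul, smul_eq_mul, mul_one]
    have e2 : ∀ y : V ⊗[k] A, Coalgebra.counit (R := k) (slL f y) = f (slR (Coalgebra.counit (R := k)) y) := by
      intro y
      induction y with
      | zero => simp
      | tmul p q => simp [mul_comm]
      | add y z hy hz => simp only [map_add, hy, hz]
    letI := c
    rw [e2]
    exact congrArg f (actL_counit (A := A) v)

theorem isDual_dualComod : ComodTens.Comod.IsDual c (dualComod c) := fun _ =>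
  (LinearEquiv.ofBijective (dualTensorHom k V A) dualTensorHom_bijective).apply_symm_apply _

end Dual

end Groth.Agent.TotInt
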